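import Mathlib

/-! Minimal primes of a colimit along faithfully flat maps. -/

set_option autoImplicit false

namespace FFColimMin

universe u

theorem exists_mul_pow_eq_zero {R : Type*} [CommRing R] {p : Ideal R} (hp : p ∈ minimalPrimes R)
    {x : R} (hx : x ∈ p) : ∃ s, s ∉ p ∧ ∃ n : ℕ, s * x ^ n = 0 := by
  by_contra h
  push_neg at h
  have hpp : p.IsPrime := hp.1.1
  let S : Submonoid R :=
  { carrier := {y | ∃ s, s ∉ p ∧ ∃ n : ℕ, s * x ^ n = y}
    one_mem' := ⟨1, p.ne_top_iff_one.1 hpp.ne_top, 0, by simp⟩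
    mul_mem' := by
      rintro _ _ ⟨s, hs, n, rfl⟩ ⟨t, ht, m, rfl⟩
      exact ⟨s * t, fun hh => (hpp.mem_or_mem hh).elim hs ht, n + m, by rw [pow_add]; ring⟩ }
  have hdis : Disjoint ((⊥ : Ideal R) : Set R) (S : Set R) := by
    rw [Set.disjoint_left]
    rintro _ hy ⟨s, hs, n, rfl⟩
    exact h s hs n (Submodule.mem_bot R |>.1 hy)
  obtain ⟨Q, hQ, -, hQS⟩ := Ideal.exists_le_prime_disjoint _ S hdis
  have hQp : Q ≤ p := fun y hy => by
    by_contra hyp
    exact Set.disjoint_left.1 hQS hy ⟨y, hyp, 0, by simp⟩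
  have hxQ : x ∈ Q := hp.2 ⟨hQ, bot_le⟩ hQp hx
  exact Set.disjoint_left.1 hQS hxQ ⟨1, p.ne_top_iff_one.1 hpp.ne_top, 1, by simp⟩

variable {ι : Type u} [Preorder ι] [IsDirected ι (· ≤ ·)] [Nonempty ι] (G : ι → Type u)
  [∀ i, CommRing (G i)] (f : ∀ i j, i ≤ j → G i →+* G j)
  [DirectedSystem G fun i j h => f i j h]

/-- The colimit. -/
abbrev Lim : Type u := Ring.DirectLimit G fun i j h => ⇑(f i j h)

/-- The maps into the colimit. -/
noncomputable abbrev emb (i : ι) : G i →+* Lim G f := Ring.DirectLimit.of G (fun i j h => ⇑(f i j h)) i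

theorem f_f {i j k : ι} (hij : i ≤ j) (hjk : j ≤ k) (x : G i) :
    f j k hjk (f i j hij x) = f i k (hij.trans hjk) x :=
  DirectedSystem.map_map (f := fun i j h => ⇑(f i j h)) hij hjk x

theorem eq_of_of_eq {i j : ι} {x : G i} {y : G j} (h : (emb G f i) x = (emb G f j) y) :
    ∃ k, ∃ (hi : i ≤ k) (hj : j ≤ k), f i k hi x = f j k hj y := by
  obtain ⟨m, hi, hj⟩ := directed_of (· ≤ ·) i j
  have h0 : (emb G f m) (f i m hi x - f j m hj y) = 0 := by
    rw [map_sub, Ring.DirectLimit.of_f, Ring.DirectLimit.of_f, h, sub_self]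
  obtain ⟨k, hmk, hk⟩ := Ring.DirectLimit.of.zero_exact (f' := fun i j h => f i j h) h0
  refine ⟨k, hi.trans hmk, hj.trans hmk, sub_eq_zero.1 ?_⟩
  rw [← f_f G f hi hmk, ← f_f G f hj hmk]
  rw [← map_sub]
  exact hk

theorem exists_of_mem_map {i : ι} (q : Ideal (G i)) {z : (Lim G f)} (hz : z ∈ q.map ((emb G f i))) :
    ∃ j, ∃ (hij : i ≤ j), ∃ y ∈ q.map (f i j hij), (emb G f j) y = z := by
  rw [Ideal.map, Ideal.span] at hz
  induction hz using Submodule.span_induction with
  | mem z hz =>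
    obtain ⟨x, hx, rfl⟩ := hz
    exact ⟨i, le_rfl, _, Ideal.mem_map_of_mem _ hx, by rw [Ring.DirectLimit.of_f]⟩
  | zero => exact ⟨i, le_rfl, 0, zero_mem _, map_zero _⟩
  | add z w _ _ hz hw =>
    obtain ⟨j, hij, y, hy, rfl⟩ := hz
    obtain ⟨k, hik, y', hy', rfl⟩ := hw
    obtain ⟨m, hjm, hkm⟩ := directed_of (· ≤ ·) j k
    have key : ∀ (j : ι) (hij : i ≤ j) (hjm : j ≤ m), ∀ y ∈ q.map (f i j hij),
        f j m hjm y ∈ q.map (f i m (hij.trans hjm)) := by
      intro j hij hjm y hy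
      have := Ideal.mem_map_of_mem (f j m hjm) hy
      rw [Ideal.map_map] at this
      have e : (f j m hjm).comp (f i j hij) = f i m (hij.trans hjm) :=
        RingHom.ext fun a => f_f G f hij hjm a
      rwa [e] at this
    refine ⟨m, hij.trans hjm, f j m hjm y + f k m hkm y',
      add_mem (key j hij hjm y hy) (key k hik hkm y' hy'), ?_⟩
    rw [map_add, Ring.DirectLimit.of_f, Ring.DirectLimit.of_f]
  | smul c z _ hz =>
    obtain ⟨j, hij, y, hy, rfl⟩ := hz
    obtain ⟨k, c, rfl⟩ := Ring.DirectLimit.exists_of c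
    obtain ⟨m, hjm, hkm⟩ := directed_of (· ≤ ·) j k
    refine ⟨m, hij.trans hjm, f k m hkm c * f j m hjm y, Ideal.mul_mem_left _ _ ?_, by
      rw [map_mul, Ring.DirectLimit.of_f, Ring.DirectLimit.of_f, smul_eq_mul]⟩
    have := Ideal.mem_map_of_mem (f j m hjm) hy
    rw [Ideal.map_map] at this
    have e : (f j m hjm).comp (f i j hij) = f i m (hij.trans hjm) :=
      RingHom.ext fun a => f_f G f hij hjm a
    rwa [e] at this

theorem encard_minimalPrimes (hf : ∀ i j (h : i ≤ j), letI := (f i j h).toAlgebra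
      Module.FaithfullyFlat (G i) (G j)) :
    (minimalPrimes (Lim G f)).encard = ⨆ i, (minimalPrimes (G i)).encard := by
  classical
  have hmin : ∀ i, ∀ p ∈ minimalPrimes (Lim G f), p.comap ((emb G f i)) ∈ minimalPrimes (G i) := by
    intro i p hp
    have hpp : p.IsPrime := hp.1.1
    refine ⟨⟨Ideal.comap_isPrime _ _, bot_le⟩, fun q ⟨hq, _⟩ hle x hx => ?_⟩
    obtain ⟨s, hs, n, hsn⟩ := exists_mul_pow_eq_zero hp (Ideal.mem_comap.1 hx)
    obtain ⟨k, s, rfl⟩ := Ring.DirectLimit.exists_of s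
    obtain ⟨m, him, hkm⟩ := directed_of (· ≤ ·) i k
    have h0 : (emb G f m) (f k m hkm s * f i m him x ^ n) = 0 := by
      rw [map_mul, map_pow, Ring.DirectLimit.of_f, Ring.DirectLimit.of_f]
      exact hsn
    obtain ⟨j, hmj, hj⟩ := Ring.DirectLimit.of.zero_exact (f' := fun i j h => f i j h) h0
    letI := (f i j (him.trans hmj)).toAlgebra
    haveI : Module.FaithfullyFlat (G i) (G j) := hf i j _
    haveI : (p.comap ((emb G f j))).IsPrime := Ideal.comap_isPrime _ _
    haveI : (p.comap ((emb G f j))).LiesOver (p.comap ((emb G f i))) := ⟨by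
      rw [Ideal.under, Ideal.comap_comap]
      exact congrArg (fun g : G i →+* (Lim G f) => p.comap g)
        (RingHom.ext fun a => (Ring.DirectLimit.of_f (f := fun i j h => ⇑(f i j h)) (him.trans hmj) a).symm)⟩
    haveI := hq
    obtain ⟨Q, hQle, hQ, hQover⟩ := Ideal.exists_ideal_le_liesOver_of_le (p := q) (q := p.comap ((emb G f i)))
      (p.comap ((emb G f j))) hle
    rw [map_mul, map_pow, f_f G f hkm hmj,
      f_f G f him hmj] at hj
    have hs' : f k j (hkm.trans hmj) s ∉ Q := fun hh => hs (by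
      simpa [Ring.DirectLimit.of_f] using hQle hh)
    have : f i j (him.trans hmj) x ∈ Q :=
      hQ.mem_of_pow_mem n ((hQ.mem_or_mem (hj ▸ Q.zero_mem)).resolve_left hs')
    rw [hQover.over]
    exact this
  refine le_antisymm ?_ (iSup_le fun i => ?_)
  · refine ENat.forall_natCast_le_iff_le.1 fun n hn => ?_
    obtain ⟨t, ht, htn⟩ := Set.exists_subset_encard_eq hn
    have htf : t.Finite := Set.finite_of_encard_eq_coe htn
    have hsep : ∀ pq : Ideal (Lim G f) × Ideal (Lim G f), ∃ i : ι, ∀ j, i ≤ j →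
        pq.1.comap ((emb G f j)) = pq.2.comap ((emb G f j)) → pq.1 = pq.2 := fun pq => by
      by_cases h : pq.1 = pq.2
      · exact ⟨Classical.arbitrary ι, fun _ _ _ => h⟩
      obtain ⟨z, hz⟩ : ∃ z, ¬(z ∈ pq.1 ↔ z ∈ pq.2) := by
        by_contra hh
        push_neg at hh
        exact h (Ideal.ext hh)
      obtain ⟨i, x, rfl⟩ := Ring.DirectLimit.exists_of z
      refine ⟨i, fun j hij he => absurd ?_ hz⟩
      rw [← Ring.DirectLimit.of_f hij, ← Ideal.mem_comap, he, Ideal.mem_comap]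
    choose I hI using hsep
    obtain ⟨M, hM⟩ := (htf.prod htf).toFinset.image I |>.exists_le
    refine le_trans ?_ (le_iSup (fun i => (minimalPrimes (G i)).encard) M)
    rw [← htn]
    refine Set.encard_le_encard_of_injOn (f := fun p => p.comap ((emb G f M))) (fun p hp => hmin M p (ht hp))
      fun p hp q hq h => hI (p, q) M (hM _ (Finset.mem_image_of_mem _ ?_)) h
    simpa using ⟨hp, hq⟩
  · refine le_trans (Set.encard_le_encard fun q hq => ?_) (Set.encard_image_le (fun p => p.comap ((emb G f i))) _)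
    have hqp : q.IsPrime := hq.1.1
    have hdis : Disjoint ((q.map ((emb G f i)) : Ideal (Lim G f)) : Set (Lim G f)) (q.primeCompl.map ((emb G f i)) : Set (Lim G f)) := by
      rw [Set.disjoint_left]
      rintro _ hz ⟨s, hs, rfl⟩
      obtain ⟨j, hij, y, hy, hyz⟩ := exists_of_mem_map G f q hz
      obtain ⟨k, hjk, hik, e⟩ := eq_of_of_eq G f hyz
      have hy' := Ideal.mem_map_of_mem (f j k hjk) hy
      rw [Ideal.map_map, e] at hy'
      have e2 : (f j k hjk).comp (f i j hij) = f i k hik :=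
        RingHom.ext fun a => f_f G f hij hjk a
      rw [e2] at hy'
      letI := (f i k hik).toAlgebra
      haveI : Module.FaithfullyFlat (G i) (G k) := hf i k _
      exact hs ((Ideal.comap_map_eq_self_of_faithfullyFlat (B := G k) q).le hy')
    obtain ⟨P, hP, hPle, hPd⟩ := Ideal.exists_le_prime_disjoint _ _ hdis
    haveI := hP
    obtain ⟨p, hp, hpP⟩ := Ideal.exists_minimalPrimes_le (bot_le (a := P))
    suffices hle : p.comap (emb G f i) ≤ q from ⟨p, hp, le_antisymm hle (hq.2 (hmin i p hp).1 hle)⟩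
    intro x hx
    by_contra hxq
    exact Set.disjoint_left.1 hPd (hpP hx) ⟨x, hxq, rfl⟩

end FFColimMin
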